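/-
Tightly embedded subgroups: definitions.
-/
import Cfsg.Agent.Ab2.Fin2
import Cfsg.Agent.CT.CZ
set_option autoImplicit false

namespace CF.Te
open Subgroup Cfsg CF.BG CF.Sig CF.GW CF.Ab2 CF.CT

variable {G : Type*} [Group G]

/-- `K` contains a four-group -/
def Four (K : Subgroup G) : Prop := ∃ a ∈ K, ∃ b ∈ K, FP a b

/-- distinct conjugates of `P` (the points) have no common involution -/
structure TI (P : Subgroup G) : Prop where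
  ex : ∃ t ∈ P, Iv t
  ti : ∀ {g t : G}, Iv t → t ∈ P → t ∈ cj g P → cj g P = P

/-- adjacent points -/
def Ad (X Y : Subgroup G) : Prop := X ≠ Y ∧ ∃ t ∈ Y, Iv t ∧ t ∈ 𝐍 X

/-- full pair: a Sylow subgroup of `Y` normalises `X` -/
def Fu (X Y : Subgroup G) : Prop := ∃ T, Syl 2 T Y ∧ T ≤ 𝐍 X

/-- frame of an adjacent pair -/
structure Fr (P X Y R T : Subgroup G) : Prop where
  ti : TI P
  x : Conj P X
  y : Conj P Y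
  ne : X ≠ Y
  r : Syl 2 R X
  t : Syl 2 T (Y ⊓ 𝐍 X)
  t1 : T ≠ ⊥
  n : T ≤ 𝐍 R

/-- the local structure of a pair that is not full -/
structure BX (T U X : Subgroup G) : Prop where
  pi : P2 (T ⊔ X)
  t1 : T ≠ ⊥
  aT : Abel T
  aU : Abel U
  tu : T ≤ 𝐂 U
  le : U ≤ X
  ne : ¬ X ≤ U
  nx : T ≤ 𝐍 X
  dj : T ⊓ X = ⊥
  cm : ∀ x ∈ X, ∀ t ∈ T, t⁻¹ * (x * t * x⁻¹) ∈ U
  inj : ∀ x ∈ X, x ∉ U → ∀ t ∈ T, x * t = t * x → t = 1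
  sur : ∀ x ∈ X, x ∉ U → ∀ s ∈ U, ∃ t ∈ T, x * t * x⁻¹ = t * s
  inv : ∀ x ∈ X, x ∉ U → ∀ s ∈ U, x * s * x⁻¹ = s⁻¹
  sq : ∀ x ∈ X, x * x ∈ U

/-- the normaliser of `T × C_R(T)` in `R` -/
def Xo (R T : Subgroup G) : Subgroup G := R ⊓ 𝐍 (T ⊔ R ⊓ 𝐂 T)

/-- type (c) -/
def TC (R T : Subgroup G) : Prop := R ≤ Xo R T ∧ ∀ v ∈ R, v * v = 1 → v ∈ 𝐂 T

/-- generalised dihedral Sylow subgroup with enough transvections -/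
structure GDh (Q R A S : Subgroup G) : Prop where
  r : Syl 2 R Q
  pi : P2 S
  rs : R ≤ S
  n : S ≤ 𝐍 Q
  le : A ≤ R
  ab : Abel A
  four : Four A
  ne : ¬ R ≤ A
  idx : ∀ x ∈ R, ∀ y ∈ R, x ∉ A → y ∉ A → x * y ∈ A
  out : ∀ x ∈ R, x ∉ A → x * x = 1
  cv : ∀ v ∈ A, v * v = 1 → v ∈ 𝐂 S
  tr : ∀ x ∈ R, x ∉ A → ∀ v ∈ A, v * v = 1 → ∃ y ∈ S, y * x * y⁻¹ = x * v

/-- translation with centre `V` on `W` -/
structure Tl (W V : Subgroup G) (x : G) : Prop where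
  n : x ∈ 𝐍 W
  c : x ∈ 𝐂 V
  cm : ∀ w ∈ W, w⁻¹ * (x * w * x⁻¹) ∈ V
  ne : x ∉ 𝐂 W

/-- an `H`-invariant partial spread of `W` -/
structure Sp (W H : Subgroup G) (𝒮 : Subgroup G → Prop) : Prop where
  el : Abelem 2 W
  n : H ≤ 𝐍 W
  le : ∀ {V}, 𝒮 V → V ≤ W
  dj : ∀ {V V'}, 𝒮 V → 𝒮 V' → V ≠ V' → V ⊓ V' = ⊥ ∧ W ≤ V ⊔ V'
  act : ∀ {V g}, 𝒮 V → g ∈ H → 𝒮 (cj g V)

/-- the line on `W` -/
def Ln (P W V : Subgroup G) : Prop := ∃ X, Conj P X ∧ V = W ⊓ X ∧ ♯V * ♯V = ♯W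

/-- no strongly embedded subgroup -/
def NSE (G : Type*) [Group G] : Prop := ∀ H : Subgroup G, ¬ IsStronglyEmbedded H

/-- a counterexample: `K` standard with centraliser `Q` -/
structure St (K Q : Subgroup G) : Prop where
  qs : IsQuasisimple K
  four : Four K
  cq : Q = 𝐂 K
  ti : TI Q
  nq : 𝐍 Q ≤ 𝐍 K
  h1 : Four Q
  h2 : ∀ R, Syl 2 R Q → ¬ DC R
  h3 : ∀ z ∈ Q, Iv z → ∀ S, Syl 2 S (Q ⊓ 𝐂₁ z) → Abelem 2 S → ¬ Sol (Q ⊓ 𝐂₁ z)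

def C0 (P : Subgroup G) : Prop := ∀ ⦃X Y S : Subgroup G⦄ ⦃d e : G⦄, Conj P X → Conj P Y → X ≠ Y →
  Iv d → Iv e → d ∈ Y → d ∈ 𝐍 X → e ∈ X → P2 S → d ∈ S → e ∈ S → d * e = e * d

def DC1 (P : Subgroup G) : Prop := ∀ ⦃X Y S : Subgroup G⦄ ⦃d e : G⦄, Conj P X → Conj P Y → X ≠ Y →
  Iv d → Iv e → d ∈ X → e ∈ Y → P2 S → d ∈ S → e ∈ S → d * e = e * d

/-- two involutions in points generating a dihedral group of order 8 -/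
structure D8 (P J L : Subgroup G) (t d : G) : Prop where
  j : Conj P J
  l : Conj P L
  ne : J ≠ L
  it : Iv t
  id : Iv d
  tj : t ∈ J
  dl : d ∈ L
  cm : t * (d * t * d) = d * t * d * t
  nc : t * d ≠ d * t

/-- chamber system: an `M`-invariant set `Ω` of points -/
structure Ch (P M : Subgroup G) (Ω : Subgroup G → Prop) : Prop where
  ti : TI P
  pt : ∀ {X}, Ω X → Conj P X
  act : ∀ {X g}, Ω X → g ∈ M → Ω (cj g X)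
  dc : ∀ {X Y S : Subgroup G} {d e : G}, Ω X → Ω Y → X ≠ Y → Iv d → Iv e → d ∈ X → e ∈ Y → P2 S →
    S ≤ M → d ∈ S → e ∈ S → d * e = e * d

/-- the points meeting `S` -/
def Sg (Ω : Subgroup G → Prop) (S : Subgroup G) : Set (Subgroup G) :=
  {X | Ω X ∧ ∃ t ∈ S, Iv t ∧ t ∈ X}

/-- pointwise stabiliser -/
def Fx (Φ : Set (Subgroup G)) : Subgroup G := ⨅ X ∈ Φ, 𝐍 X

/-- setwise stabiliser -/
def Sb (Φ : Set (Subgroup G)) : Subgroup G where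
  carrier := {g | ∀ X, X ∈ Φ ↔ cj g X ∈ Φ}
  one_mem' := by simp
  mul_mem' := fun {g k} hg hk X => by rw [← cj_cj]; exact (hk X).trans (hg _)
  inv_mem' := fun {g} hg X => by simpa using (hg (cj g⁻¹ X)).symm

def Ps (Φ : Set (Subgroup G)) : Subgroup G := ⨆ X ∈ Φ, X ⊓ Fx Φ

def Ww (Φ : Set (Subgroup G)) (S : Subgroup G) : Subgroup G := ⨆ X ∈ Φ, S ⊓ X

/-- support -/
def Iu (Φ : Set (Subgroup G)) (u : G) : Set (Subgroup G) := {X | X ∈ Φ ∧ u ∉ CZ 2 X}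

/-- world F: all adjacent pairs centralise each other modulo cores -/
structure WF (P : Subgroup G) : Prop where
  ti : TI P
  four : Four P
  ne : P ≠ ⊤
  nse : NSE G
  cb : ∀ {X Y : Subgroup G} {y : G}, Conj P X → Conj P Y → X ≠ Y → y ∈ Y → y ∈ 𝐍 X → E2 y →
    y ∈ CZ 2 X
  nd : ∃ r ∈ P, E2 r ∧ (r * r ≠ 1 ∨ r ∉ CZ 2 P)

/-- `O_2(P/O(P)) = 1` -/
def O2 (P : Subgroup G) : Prop := ∀ A, P2 A → A ≤ P → A ⊔ 𝒪 P ⊴ P → A = ⊥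

/-- `Z(P/O(P)) = 1` -/
def Z1 (P : Subgroup G) : Prop := ∀ r ∈ P, Iv r → r ∉ CZ 2 P

/-- world AB -/
def AB (P : Subgroup G) : Prop :=
  WF P ∧ ∃ A, Syl 2 A P ∧ Abel A ∧ (∃ a ∈ A, a * a ≠ 1) ∧ P ≤ A ⊔ 𝒪 P

/-- world V -/
structure WV (P : Subgroup G) : Prop where
  ti : TI P
  four : Four P
  om : ∀ {X R : Subgroup G} {v : G}, Conj P X → Syl 2 R X → v ∈ R → v * v = 1 → v ∈ 𝐂 R
  ne : ∃ r ∈ P, E2 r ∧ r * r ≠ 1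
  tc : ∀ {X Y R T : Subgroup G}, Fr P X Y R T → R ≤ 𝐂 T ∨ TC R T

/-- `V`-groups -/
def Vg (X V : Subgroup G) : Prop := ∃ R, Syl 2 R X ∧ V = 𝛀 2 R

/-- a `V`-group of `Y` normalising a Sylow subgroup of `X` -/
structure Vf (P X Y R V : Subgroup G) : Prop where
  w : WV P
  x : Conj P X
  y : Conj P Y
  ne : X ≠ Y
  r : Syl 2 R X
  v : Vg Y V
  n : V ≤ 𝐍 R

/-- special triple with centre `X` -/
structure Tri (P J L X A B R : Subgroup G) : Prop where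
  a : Vf P X J R A
  b : Vf P X L R B
  cm : ∀ t ∈ A, ∀ d ∈ B, t⁻¹ * (d * t * d⁻¹) ∈ 𝛀 2 R
  ns : ∀ t ∈ A, ∀ d ∈ B, t * d = d * t → t = 1 ∨ d = 1
  na : ¬ Fu X J
  nb : ¬ Fu X L

/-- a complement centralised by the group of the line through `L` and `X` -/
structure Co (L X B R U Z : Subgroup G) (g : G) : Prop where
  le : Z ≤ U
  sup : U ≤ 𝛀 2 R ⊔ Z
  dj : Z ⊓ (B ⊔ 𝛀 2 R) = ⊥
  c : g ∈ 𝐂 Z
  n : g ∈ 𝐍 (B ⊔ 𝛀 2 R)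
  pt : cj g X = L
  v : cj g (𝛀 2 R) = B

end CF.Te
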