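/-
Tightly embedded subgroups: basics.
-/
import Cfsg.Agent.Te.A
import Cfsg.Agent.ZD.Tight
import Cfsg.Agent.Bender.Final
set_option autoImplicit false
set_option linter.unusedSectionVars false

namespace CF.Te
open Subgroup Cfsg CF.BG CF.Sig CF.GW CF.Ab2 CF.CT
open scoped commutatorElement

universe u
variable {G : Type u} [Group G] [Finite G]
variable {A B H K L N P Q R R' S T X Y : Subgroup G} {a b g s t x y : G}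

theorem p2 : Nat.Prime 2 := Nat.prime_two
theorem cm_mem (hx : x ∈ S) (hy : y ∈ S) : x * y * x⁻¹ * y⁻¹ ∈ S :=
  mul_mem (mul_mem (mul_mem hx hy) (inv_mem hx)) (inv_mem hy)

theorem Four.mono (h : Four K) (l : K ≤ L) : Four L :=
  let ⟨a, ha, b, hb, f⟩ := h; ⟨a, l ha, b, l hb, f⟩
theorem Four.act (h : Four K) (g : G) : Four (cj g K) :=
  let ⟨_, ha, _, hb, f⟩ := h; ⟨_, conj_mem_cj.2 ha, _, conj_mem_cj.2 hb, f.conj g⟩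
theorem Four.conj (h : Four K) (c : Conj K L) : Four L := by obtain ⟨g, rfl⟩ := c; exact h.act g
theorem Four.syl (h : Four K) (hR : Syl 2 R K) : Four R := by
  obtain ⟨a, ha, b, hb, f⟩ := h
  obtain ⟨g, -, e⟩ := hR.syl_cj_le (V4_le.2 ⟨ha, hb⟩) f.pi
  exact (Four.act ⟨a, left_mem_V4 a b, b, right_mem_V4 a b, f⟩ g).mono e
theorem Four.card (h : Four K) : 4 ≤ ♯K :=
  let ⟨_, ha, _, hb, f⟩ := h; f.card ▸ card_le (V4_le.2 ⟨ha, hb⟩)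
theorem Four.third (h : Four K) (s : G) : ∃ b ∈ K, Iv b ∧ b ≠ s := by
  obtain ⟨a, ha, b, hb, f⟩ := h
  by_cases e : a = s
  exacts [⟨b, hb, f.r, e ▸ f.ne.symm⟩, ⟨a, ha, f.l, e⟩]
theorem ex_iv' (p : P2 A) (n : A ≠ ⊥) : ∃ t ∈ A, Iv t := BG.exists_mem_orderOf_eq p2 (p.dvd_card n)
theorem ex_iv (p : E2 x) (n : x ≠ 1) : ∃ t ∈ zpowers x, Iv t :=
  ex_iv' p.zpowers (ne_bot_of_mem (mem_zpowers x) n)
/-- a 2-group normalising a nontrivial 2-group centralises an involution in it -/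
theorem ex_fix (p : P2 A) (n : A ≠ ⊥) (q : P2 B) (l : B ≤ 𝐍 A) : ∃ t ∈ A, Iv t ∧ t ∈ 𝐂 B ∧ t ∈ 𝐂 A := by
  obtain ⟨t, ht, i⟩ := ex_iv' p.inf_left
    ((p.sup q (.inr l)).inf_cent_ne_bot p (sup_le (le_norm_self A) l) n)
  exact ⟨t, ht.1, i, cent_anti le_sup_right ht.2, cent_anti le_sup_left ht.2⟩
theorem Four.cen (h : Four R) (p : P2 R) (ha : a ∈ R) (i : Iv a) : ∃ b ∈ R, FP a b := by
  obtain ⟨z, hz, j, c, -⟩ := ex_fix p (ne_bot_of_mem ha i.ne_one) p (le_norm_self R)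
  by_cases e : a = z
  · obtain ⟨b, hb, k, n⟩ := h.third a
    exact ⟨b, hb, i, k, e ▸ (c b hb).symm, n.symm⟩
  · exact ⟨z, hz, i, j, c a ha, e⟩
theorem ex_inv (p : P2 S) (n : S ≤ 𝐍 X) : ∃ R, Syl 2 R X ∧ S ⊓ X ≤ R ∧ S ≤ 𝐍 R := by
  obtain ⟨W, hW, l⟩ := exists_syl_le (le_sup_right : S ≤ X ⊔ S) p
  exact ⟨W ⊓ X, hW.inf_normal (normalIn_sup_left n), inf_le_inf_right _ l, norm_inf (norm_of_le l) n⟩
/-- an odd group is generated by the centralisers of the involutions of a four-group -/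
theorem odd_gen (o : Od N) (f : FP a b) (ha : a ∈ 𝐍 N) (hb : b ∈ 𝐍 N) (h1 : N ⊓ 𝐂₁ a ≤ H) (h2 : N ⊓ 𝐂₁ b ≤ H)
    (h3 : N ⊓ 𝐂₁ (a * b) ≤ H) : N ≤ H := f.le_of_cent ha hb (od_iff.2 o) h1 h2 h3
theorem cov_cz (p : P2 A) (l : A ≤ CZ 2 X) : X ≤ 𝒪 X ⊔ X ⊓ 𝐂 A :=
  (sup_inf_cent_of_comm_le (O_le _ _) (le_norm_O _ (l.trans (CZ_norm 2 X))) (cop2 p (O_pi _ _)) (.inl p.sol)
    (by rw [commutator_comm]; exact comm_CZ l)).ge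
theorem cz_cent (p : P2 S) (hy : y ∈ S) (hx : x ∈ S) (m : x ∈ X) (c : y ∈ CZ 2 X) : y * x = x * y :=
  commutatorElement_eq_one_iff_mul_comm.1 (eq_one_of_mem_bot (p.inf_eq_bot (O_pi _ X))
    ⟨cm_mem hy hx, comm_CZ le_rfl (commutator_mem_commutator c m)⟩)
theorem sol_of_nor (hR : Syl 2 R H) (l : R ≤ N) (n : N ⊴ H) (s : Sol N) : Sol H :=
  s.of_qt n.norm (od_sol ((piGrp_qt_iff n.norm).2 (hR.idx_of_le l)))
theorem syl_card (c : Conj X Y) (hR : Syl 2 R X) (hR' : Syl 2 R' Y) : ♯R = ♯R' := by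
  obtain ⟨g, rfl⟩ := c
  rw [← (hR.cj g).card_eq hR', card_cj]

theorem TI.conj (h : TI P) (c : Conj P X) : TI X := by
  obtain ⟨k, rfl⟩ := c
  obtain ⟨t, ht, i⟩ := h.ex
  refine ⟨⟨_, conj_mem_cj.2 ht, i.conj k⟩, fun {g t} i a b => ?_⟩
  have := h.ti (g := k⁻¹ * g * k) (i.conj' k) (mem_cj.1 a) (by
    rw [← cj_cj, ← cj_cj, mem_cj_inv]; simpa [mul_assoc] using b)
  rw [← cj_cj, ← cj_cj, cj_eq_iff, inv_inv] at this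
  exact this
theorem TI.eq (h : TI P) (a : Conj P X) (b : Conj P Y) (p : E2 x) (n : x ≠ 1) (hx : x ∈ X) (hy : x ∈ Y) : X = Y := by
  obtain ⟨t, ht, i⟩ := ex_iv p n
  obtain ⟨g, rfl⟩ := a.symm.trans b
  exact ((h.conj a).ti i (zpowers_le.2 hx ht) (zpowers_le.2 hy ht)).symm
theorem TI.bot (h : TI P) (a : Conj P X) (b : Conj P Y) (ne : X ≠ Y) (p : P2 A) (hx : A ≤ X) (hy : A ≤ Y) : A = ⊥ :=
  eq_bot_of_forall fun _ m => by_contra fun n => ne (h.eq a b (p.elt m) n (hx m) (hy m))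
theorem TI.odd (h : TI P) (a : Conj P X) (b : Conj P Y) (ne : X ≠ Y) : Od (X ⊓ Y) :=
  (piNat_compl_single p2).2 fun d =>
    let ⟨_, m, i⟩ := BG.exists_mem_orderOf_eq p2 d
    ne (h.eq a b (Iv.piElt i) (Iv.ne_one i) m.1 m.2)
theorem TI.mv (h : TI P) (a : Conj P X) (b : Conj P Y) (p : E2 x) (n : x ≠ 1) (hx : x ∈ X) (hy : g * x * g⁻¹ ∈ Y) :
    cj g X = Y :=
  h.eq (conj_cj_right.2 a) b (p.conj g) (by simpa using n) (conj_mem_cj.2 hx) hy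
theorem TI.cen (h : TI P) (a : Conj P X) (p : E2 x) (n : x ≠ 1) (hx : x ∈ X) : 𝐂₁ x ≤ 𝐍 X := fun g hg =>
  cj_eq_self.1 (h.mv a a p n hx (by rwa [mem_cent1.1 hg, mul_inv_cancel_right]))
theorem TI.nor (h : TI P) (a : Conj P X) (p : P2 A) (n : A ≠ ⊥) (hx : A ≤ X) : 𝐍 A ≤ 𝐍 X := fun _ hg =>
  let ⟨_, m, e⟩ := exists_mem_ne_one n
  cj_eq_self.1 (h.mv a a (p.elt m) e (hx m) (hx (conj_mem_of_norm hg m)))
theorem TI.syl_ne (h : TI P) (a : Conj P X) (hR : Syl 2 R X) : R ≠ ⊥ :=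
  let ⟨_, m, i⟩ := (h.conj a).ex
  hR.syl_ne_bot p2 (i ▸ orderOf_dvd_card' m)
/-- 2-elements of two points normalising each other's point inside a 2-group commute -/
theorem TI.cm (h : TI P) (a : Conj P X) (b : Conj P Y) (ne : X ≠ Y) (p : P2 S) (hx : x ∈ S ⊓ X ⊓ 𝐍 Y)
    (hy : y ∈ S ⊓ Y ⊓ 𝐍 X) : x * y = y * x :=
  commutatorElement_eq_one_iff_mul_comm.1 (eq_one_of_mem_bot
    (h.bot a b ne (A := S ⊓ X ⊓ Y) p.inf_left.inf_left (inf_le_left.trans inf_le_right) inf_le_right) (by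
      rw [commutatorElement_def]
      refine ⟨⟨cm_mem hx.1.1 hy.1.1, ?_⟩, Y.mul_mem (conj_mem_of_norm hx.2 hy.1.2) (Y.inv_mem hy.1.2)⟩
      rw [show x * y * x⁻¹ * y⁻¹ = x * (y * x⁻¹ * y⁻¹) by group]
      exact X.mul_mem hx.1.2 (conj_mem_of_norm hy.2 (X.inv_mem hx.1.2))))
theorem TI.tight (h : TI P) : IsTightlyEmbedded P :=
  let ⟨_, m, i⟩ := h.ex
  ⟨even_iff_two_dvd.2 (i ▸ orderOf_dvd_card' m), fun g hg =>
    od_iff.2 (h.odd (.refl P) (conj_cj P g) fun e => hg (cj_eq_self.1 e.symm))⟩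
theorem TI.norm_ne [IsSimpleGroup G] (h : TI P) (ne : P ≠ ⊤) : 𝐍 P ≠ ⊤ := fun e =>
  let ⟨_, m, i⟩ := h.ex
  ((normalizer_eq_top_iff.1 e).eq_bot_or_eq_top).elim (ne_bot_of_mem m i.ne_one) ne
theorem TI.ad [IsSimpleGroup G] (h : TI P) (ne : P ≠ ⊤) (s : NSE G) : ∃ Y, Conj P Y ∧ Ad P Y := by
  by_contra! c
  have k := CF.ZD.tight_se h.tight.1 (fun g hg => od_iff.2 ((piNat_compl_single p2).2 fun d =>
    let ⟨t, m, i⟩ := BG.exists_mem_orderOf_eq p2 d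
    c _ (conj_cj P g) ⟨fun e => hg (cj_eq_self.1 e.symm), t, m.1, i, m.2⟩)) (h.norm_ne ne)
  obtain ⟨t, m, i⟩ := h.ex
  rw [(normalClosure_normal.eq_bot_or_eq_top).resolve_left
    (ne_bot_of_mem (le_normalClosure m) i.ne_one)] at k
  exact (SEs.top ⟨_, k⟩).elim s

theorem Ad.act (h : Ad X Y) (g : G) : Ad (cj g X) (cj g Y) :=
  let ⟨n, _, m, i, k⟩ := h
  ⟨fun e => n (cj_inj.1 e), _, conj_mem_cj.2 m, i.conj g, cj_norm g X ▸ conj_mem_cj.2 k⟩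
theorem Fu.act (h : Fu X Y) (g : G) : Fu (cj g X) (cj g Y) :=
  let ⟨_, s, n⟩ := h; ⟨_, s.cj g, cj_norm_iff.2 n⟩
theorem fu_cj : Fu (cj g X) (cj g Y) ↔ Fu X Y := ⟨fun h => by simpa using h.act g⁻¹, (·.act g)⟩
theorem Fr.act (f : Fr P X Y R T) (g : G) : Fr P (cj g X) (cj g Y) (cj g R) (cj g T) :=
  ⟨f.ti, conj_cj_right.2 f.x, conj_cj_right.2 f.y, fun e => f.ne (cj_inj.1 e), f.r.cj g,
    by rw [← cj_norm, ← cj_inf]; exact f.t.cj g, fun e => f.t1 (cj_eq_bot.1 e), cj_norm_iff.2 f.n⟩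
theorem TI.fr (h : TI P) (a : Conj P X) (b : Conj P Y) (ne : X ≠ Y) (p : P2 B) (n : B ≠ ⊥) (l : B ≤ Y ⊓ 𝐍 X) :
    ∃ R T, Fr P X Y R T ∧ B ≤ T := by
  obtain ⟨T, hT, m⟩ := exists_syl_le l p
  obtain ⟨R, hR, -, k⟩ := ex_inv hT.pi (hT.le.trans inf_le_right)
  exact ⟨R, T, ⟨h, a, b, ne, hR, hT, ne_bot_mono n m, k⟩, m⟩

namespace Fr
variable (f : Fr P X Y R T)
include f

theorem ty : T ≤ Y := f.t.le.trans inf_le_left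
theorem nx : T ≤ 𝐍 X := f.t.le.trans inf_le_right
theorem dj : T ⊓ X = ⊥ :=
  f.ti.bot f.x f.y f.ne f.t.pi.inf_left inf_le_right (inf_le_left.trans f.ty)
theorem pi : P2 (T ⊔ R) := f.t.pi.sup f.r.pi (.inl f.n)
/-- the stabiliser of `Y` in `R` -/
theorem stab : R ⊓ 𝐍 Y = R ⊓ 𝐂 T :=
  le_antisymm (fun _ m => ⟨m.1, fun _ ht => (f.ti.cm f.x f.y f.ne f.pi ⟨⟨mem_sup_right m.1, f.r.le m.1⟩, m.2⟩
    ⟨⟨mem_sup_left ht, f.ty ht⟩, f.nx ht⟩).symm⟩)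
    (inf_le_inf_left _ ((cent_le_norm T).trans (f.ti.nor f.y f.t.pi f.t1 f.ty)))
theorem cen (ht : t ∈ T) (n : t ≠ 1) : R ⊓ 𝐂₁ t = R ⊓ 𝐂 T :=
  le_antisymm ((inf_le_inf_left _ (f.ti.cen f.y (f.t.pi.elt ht) n (f.ty ht))).trans f.stab.le)
    (inf_le_inf_left _ (cent_le_cent1 ht))
theorem ul : R ⊓ 𝐂 T ≤ X ⊓ 𝐍 Y := f.stab ▸ inf_le_inf_right _ f.r.le
theorem inf_x : (T ⊔ R ⊓ 𝐂 T) ⊓ X = R ⊓ 𝐂 T := by
  rw [sup_inf_right (inf_le_left.trans f.r.le) (.inr (norm_of_cent inf_le_right)), f.dj, bot_sup_eq]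
theorem card_le : ♯T ≤ ♯(R ⊓ 𝐂 T) := by
  have nU : R ⊓ 𝐂 T ≤ 𝐍 T := norm_of_cent inf_le_right
  by_cases c : R ≤ 𝐂 T
  · obtain ⟨R', s⟩ := exists_syl 2 Y
    rw [inf_eq_left.2 c, syl_card (f.x.symm.trans f.y) f.r s]
    exact s.card_le f.ty f.t.pi
  have lt : T ⊔ R ⊓ 𝐂 T < T ⊔ R := lt_of_le_of_ne (sup_le_sup_left inf_le_left _) fun e =>
    c ((le_inf (le_sup_right.trans e.ge) f.r.le).trans (f.inf_x.le.trans inf_le_right))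
  obtain ⟨_, ⟨m, n⟩, k⟩ := SetLike.exists_of_lt (f.pi.nil.lt_inf_norm lt)
  obtain ⟨t, ht, r, hr, rfl⟩ := (mem_sup_norm f.n).1 m
  have n' : r ∈ 𝐍 (T ⊔ R ⊓ 𝐂 T) := (mul_mem_cancel_left (le_norm_self _ (mem_sup_left ht))).1 n
  have l : cj r T ≤ T ⊔ R ⊓ 𝐂 T := cj_le_of_norm n' le_sup_left
  have d : T ⊓ cj r T = ⊥ := eq_bot_of_forall fun v hv => by_contra fun v1 =>
    k (mul_mem_sup ht (f.stab.le ⟨hr, cj_eq_self.1 (f.ti.eq (conj_cj_right.2 f.y) f.y (f.t.pi.elt hv.1) v1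
      (cj_mono r f.ty hv.2) (f.ty hv.1))⟩))
  have e := BG.card_le (sup_le le_sup_left l)
  rw [card_sup_of_inf_bot (.inr (l.trans (sup_le (le_norm_self T) nU))) d, card_cj, card_sup_of_inf_bot (.inr nU)
    (eq_bot_mono f.dj (inf_le_inf_left _ (inf_le_left.trans f.r.le)))] at e
  exact Nat.le_of_mul_le_mul_left e (card_pos' T)
theorem u1 : R ⊓ 𝐂 T ≠ ⊥ := one_lt_card.1 ((one_lt_card.2 f.t1).trans_le f.card_le)
theorem syl_card' : Syl 2 (R ⊓ 𝐂 T) (X ⊓ 𝐍 Y) ∧ ♯(R ⊓ 𝐂 T) = ♯T := by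
  obtain ⟨R', U, k, l⟩ := f.ti.fr f.y f.x f.ne.symm f.r.pi.inf_left f.u1 f.ul
  have e := k.card_le.trans (f.t.card_le k.ul k.r.pi.inf_left)
  exact ⟨eq_of_card_le l (e.trans f.card_le) ▸ k.t, le_antisymm ((BG.card_le l).trans e) f.card_le⟩
theorem syl : Syl 2 (R ⊓ 𝐂 T) (X ⊓ 𝐍 Y) := f.syl_card'.1
theorem card : ♯(R ⊓ 𝐂 T) = ♯T := f.syl_card'.2
theorem ad : Ad X Y ∧ Ad Y X :=
  let ⟨t, m, i⟩ := ex_iv' f.t.pi f.t1
  let ⟨s, k, j⟩ := ex_iv' f.syl.pi f.u1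
  ⟨⟨f.ne, t, f.ty m, i, f.nx m⟩, f.ne.symm, s, (f.ul k).1, j, (f.ul k).2⟩
theorem full (c : R ≤ 𝐂 T) : Syl 2 T Y := by
  obtain ⟨R', s⟩ := exists_syl 2 Y
  exact s.of_card f.ty (by rw [← f.card, inf_eq_left.2 c, syl_card (f.x.symm.trans f.y) f.r s])
theorem of_card (c : ♯R ≤ ♯T) : R ≤ 𝐂 T := inf_eq_left.1 (eq_of_card_le inf_le_left (f.card ▸ c))
theorem fu : Fu X Y ↔ R ≤ 𝐂 T :=
  ⟨fun ⟨_, s, n⟩ => f.of_card (syl_card (f.x.symm.trans f.y) f.r s ▸ f.t.card_le (le_inf s.le n) s.pi),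
    fun c => ⟨T, f.full c, f.nx⟩⟩
theorem symm : ∃ R', Fr P Y X R' (R ⊓ 𝐂 T) ∧ R' ⊓ 𝐂 (R ⊓ 𝐂 T) = T ∧ (R' ≤ 𝐂 (R ⊓ 𝐂 T) ↔ R ≤ 𝐂 T) := by
  obtain ⟨R', s, l, n⟩ := ex_inv (f.pi.le (sup_le_sup_left (inf_le_left (b := 𝐂 T)) _))
    (sup_le (norm_of_le f.ty) (f.ul.trans inf_le_right))
  have k : Fr P Y X R' (R ⊓ 𝐂 T) := ⟨f.ti, f.y, f.x, f.ne.symm, s, f.syl, f.u1, le_sup_right.trans n⟩
  have c := syl_card (f.x.symm.trans f.y) f.r s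
  exact ⟨R', k, (f.t.eq_of_le (le_inf ((le_inf le_sup_left f.ty).trans l) (cent_symm inf_le_right)) k.ul
    s.pi.inf_left).symm, fun e => f.of_card (by rw [c, ← f.card, ← k.card, inf_eq_left.2 e]),
      fun e => k.of_card (by rw [← c, inf_eq_left.2 e])⟩

end Fr

theorem TI.fr2 (h : TI P) (a : Conj P X) (b : Conj P Y) (ne : X ≠ Y) (p : P2 B) (n : B ≠ ⊥) (l : B ≤ Y ⊓ 𝐍 X)
    (q : P2 A) (m : A ≤ X ⊓ 𝐍 Y) (c : B ≤ 𝐂 A) : ∃ R T, Fr P X Y R T ∧ B ≤ T ∧ A ≤ R ⊓ 𝐂 T := by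
  have nA : A ≤ 𝐍 X := norm_of_le (m.trans inf_le_left)
  obtain ⟨T, hT, k, nT⟩ := ex_inv (X := Y ⊓ 𝐍 X) (p.sup q (.inl (norm_of_cent c)))
    (sup_le (norm_of_le l) (norm_inf (m.trans inf_le_right) (norm_of_le nA)))
  obtain ⟨R, hR, j, nR⟩ := ex_inv (hT.pi.sup q (.inr (le_sup_right.trans nT)))
    (sup_le (hT.le.trans inf_le_right) nA)
  have bT := (le_inf le_sup_left l).trans k
  have f : Fr P X Y R T := ⟨h, a, b, ne, hR, hT, ne_bot_mono n bT, le_sup_left.trans nR⟩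
  exact ⟨R, T, f, bT, f.stab ▸ le_inf ((le_inf le_sup_right (m.trans inf_le_left)).trans j) (m.trans inf_le_right)⟩
theorem TI.fr1 (h : TI P) (a : Conj P X) (b : Conj P Y) (k : Ad X Y) : ∃ R T, Fr P X Y R T :=
  let ⟨n, t, m, i, l⟩ := k
  let ⟨R, T, f, _⟩ := h.fr a b n i.piGrp (ne_bot_of_mem (mem_zpowers t) i.ne_one) (zpowers_le.2 ⟨m, l⟩)
  ⟨R, T, f⟩
theorem TI.ad_symm (h : TI P) (a : Conj P X) (b : Conj P Y) (k : Ad X Y) : Ad Y X :=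
  let ⟨_, _, f⟩ := h.fr1 a b k; f.ad.2
theorem TI.fu_symm (h : TI P) (a : Conj P X) (b : Conj P Y) (k : Fu X Y) : Fu Y X := by
  by_cases e : X = Y
  · exact e ▸ e ▸ k
  obtain ⟨T, s, n⟩ := id k
  obtain ⟨R, T', f, -⟩ := h.fr a b e s.pi (h.syl_ne b s) (le_inf s.le n)
  obtain ⟨R', f', -, c⟩ := f.symm
  exact f'.fu.2 (c.2 (f.fu.1 k))

theorem St.act (h : St K Q) (g : G) : St (cj g K) (cj g Q) := by
  refine ⟨(qs_map_iff_of_injective (conj_inj g)).2 h.qs, h.four.act g, by rw [h.cq, cj_cent],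
    h.ti.conj (conj_cj Q g), by rw [← cj_norm, ← cj_norm]; exact cj_mono g h.nq, h.h1.act g,
    fun R s d => h.h2 (cj g⁻¹ R) (by simpa using s.cj g⁻¹) (d.map _), fun z m i S s e o => ?_⟩
  have k : cj g⁻¹ (cj g Q ⊓ 𝐂₁ z) = Q ⊓ 𝐂₁ (g⁻¹ * z * g) := by rw [cj_inf, cj_inv_cj, cj_cent1, inv_inv]
  exact h.h3 _ (mem_cj.1 m) (i.conj' g) _ (k ▸ s.cj g⁻¹) (e.cj _) (k ▸ sol_cj.2 o)
theorem St.conj (h : St K Q) (c : Conj Q X) : ∃ K', St K' X := by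
  obtain ⟨g, rfl⟩ := c; exact ⟨_, h.act g⟩
theorem St.nse (h : St K Q) : NSE G := fun H s => by
  obtain ⟨a, -, b, -, f⟩ := h.four
  have o : Sol H := CF.Bender.se_sol CF.Bender.part2 s
    ⟨a, b, f.l.ne_one, f.r.ne_one, f.ne, f.l.sq, f.r.sq, f.comm⟩
  obtain ⟨t, m, i⟩ := h.ti.ex
  obtain ⟨v, hv, j⟩ := CF.Invol.se_exists_invol s
  obtain ⟨g, rfl⟩ := isConj_iff.1 (CF.Invol.se_isConj s i j)
  have l := (CF.Invol.sEmb_of_se s).centralizer_le hv j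
  rw [← cj_cent1] at l
  exact qs_not_isSolvable h.qs (sol_cj.1 (o.mono ((cj_mono g (le_cent1_iff.2 (h.cq ▸ m))).trans l)))
theorem St.ne (h : St K Q) : Q ≠ ⊤ := fun e => qs_not_le_centralizer h.qs (h.cq ▸ e ▸ le_top)

end CF.Te
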